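import Cfsg.Agent.H457.Half.Section
import Cfsg.Agent.H457.Half.FixRatio
import Cfsg.Agent.Lib.ClassTwoDuality

/-!
# The action of an element of prime order on the class two section (helper457)

* `exists_sq` : `|P / Z(P)|` is a square if `P` has class two and cyclic centre;
* `index_le` : `(p - 1)² |D| ≤ |E|`, `D / Z = C_{E / Z}(y)`, `y` of order `p ≠ r`.
-/

set_option autoImplicit false

namespace Cfsg.Agent.H457.Half

open Subgroup

/-- `|P : Z(P)|` is a square -/
theorem exists_sq {P : Type*} [Group P] [Finite P] (hc : commutator P ≤ center P) (hcyc : IsCyclic (center P)) :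
    ∃ s : ℕ, Nat.card P = s ^ 2 * Nat.card (center P) := by
  classical
  -- a maximal abelian subgroup
  let S : Set (Subgroup P) := {H | center P ≤ H ∧ ∀ a ∈ H, ∀ b ∈ H, a * b = b * a}
  have hS : S.Nonempty := ⟨center P, le_rfl, fun z _ w hw => mem_center_iff.1 hw z⟩
  obtain ⟨H, hH, hmax⟩ := Set.exists_max_image S (fun H => Nat.card H) (Set.toFinite S) hS
  have hcH : centralizer (H : Set P) = H := by
    apply le_antisymm
    · intro c hc'
      let H' : Subgroup P := closure ((H : Set P) ∪ {c})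
      have hcomm : ∀ a ∈ (H : Set P) ∪ {c}, ∀ b ∈ (H : Set P) ∪ {c}, a * b = b * a := by
        rintro a (ha | ha) b (hb | hb)
        · exact hH.2 a ha b hb
        · rw [Set.mem_singleton_iff.1 hb]
          exact mem_centralizer_iff.1 hc' a ha
        · rw [Set.mem_singleton_iff.1 ha]
          exact (mem_centralizer_iff.1 hc' b hb).symm
        · rw [Set.mem_singleton_iff.1 ha, Set.mem_singleton_iff.1 hb]
      have hH'c : ∀ a ∈ H', ∀ b ∈ H', a * b = b * a := by
        have h1 := Subgroup.isMulCommutative_closure hcomm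
        intro a ha b hb
        exact congrArg Subtype.val (h1.is_comm.comm ⟨a, ha⟩ ⟨b, hb⟩)
      have hle : H ≤ H' := fun x hx => subset_closure (Or.inl hx)
      have h2 := hmax H' ⟨hH.1.trans hle, hH'c⟩
      have h3 : H = H' := Subgroup.eq_of_le_of_card_ge hle h2
      rw [h3]
      exact subset_closure (Or.inr rfl)
    · intro x hx
      exact mem_centralizer_iff.2 fun y hy => hH.2 y hy x hx
  have h1 := Lib.ClassTwoDuality.card_centralizer_mul_card hc hcyc H hH.1
  rw [hcH] at h1
  obtain ⟨s, hs⟩ := Subgroup.card_dvd_of_le hH.1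
  refine ⟨s, ?_⟩
  rw [hs] at h1
  have h2 : 0 < Nat.card (center P) := Nat.card_pos
  have h3 : Nat.card P * Nat.card (center P) = s ^ 2 * Nat.card (center P) * Nat.card (center P) := by
    rw [← h1]; ring
  exact Nat.eq_of_mul_eq_mul_right h2 h3

variable {G : Type*} [Group G] [Finite G]

/-- `|D : Z|` is a square for a subgroup `D` of class two with centre `Z` -/
theorem exists_sq_sub (hcyc : IsCyclic (center G)) (D : Subgroup G) (hZ : center G ≤ D)
    (hcomm : ∀ u ∈ D, ∀ w ∈ D, u * w * u⁻¹ * w⁻¹ ∈ center G)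
    (hcent : ∀ w ∈ D, (∀ u ∈ D, u * w = w * u) → w ∈ center G) :
    ∃ s : ℕ, Nat.card D = s ^ 2 * Nat.card (center G) := by
  have hce : center D = (center G).subgroupOf D := by
    ext z
    rw [mem_center_iff, mem_subgroupOf]
    constructor
    · intro h
      exact hcent z z.2 fun u hu => congrArg Subtype.val (h ⟨u, hu⟩)
    · intro h g
      exact Subtype.ext (mem_center_iff.1 h g)
  have e : center D ≃* center G := (MulEquiv.subgroupCongr hce).trans (subgroupOfEquivOfLe hZ)
  have hcyc' : IsCyclic (center D) := isCyclic_of_surjective e.symm.toMonoidHom e.symm.surjective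
  have hc : commutator D ≤ center D := by
    rw [commutator_def, Subgroup.commutator_le]
    intro a _ b _
    rw [hce, mem_subgroupOf, commutatorElement_def]
    exact hcomm a a.2 b b.2
  obtain ⟨s, hs⟩ := exists_sq hc hcyc'
  exact ⟨s, by rw [hs, Nat.card_congr e.toEquiv]⟩

/-- the elements of `E` commuting with `y` modulo the centre -/
def cen (E : Subgroup G) (y : G) : Subgroup G :=
  E ⊓ (centralizer ({QuotientGroup.mk' (center G) y} : Set (G ⧸ center G))).comap (QuotientGroup.mk' (center G))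

omit [Finite G] in
theorem mem_cen {E : Subgroup G} {y w : G} : w ∈ cen E y ↔ w ∈ E ∧ y * w * y⁻¹ * w⁻¹ ∈ center G := by
  rw [cen, mem_inf, mem_comap, mem_centralizer_singleton_iff]
  refine and_congr_right fun _ => ?_
  rw [← map_mul, ← map_mul, eq_comm, QuotientGroup.mk'_eq_mk']
  constructor
  · rintro ⟨z, hz, h⟩
    have e : y * w * y⁻¹ * w⁻¹ = z⁻¹ := by
      have h1 : w * y = y * w * z := h.symm
      have h2 : y * w = w * y * z⁻¹ := by rw [h1]; group
      have hz' : z⁻¹ * (y⁻¹ * w⁻¹) = (y⁻¹ * w⁻¹) * z⁻¹ := (mem_center_iff.1 (inv_mem hz) _).symm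
      calc y * w * y⁻¹ * w⁻¹ = w * y * (z⁻¹ * (y⁻¹ * w⁻¹)) := by rw [h2]; group
        _ = w * y * ((y⁻¹ * w⁻¹) * z⁻¹) := by rw [hz']
        _ = z⁻¹ := by group
    rw [e]
    exact inv_mem hz
  · intro h
    refine ⟨(y * w * y⁻¹ * w⁻¹)⁻¹, inv_mem h, ?_⟩
    have hz := mem_center_iff.1 (inv_mem h) (y * w)
    rw [hz]
    group

theorem card_map_mk (D : Subgroup G) (hD : center G ≤ D) :
    Nat.card D = Nat.card (center G) * Nat.card (D.map (QuotientGroup.mk' (center G))) := by
  have h1 := Subgroup.relIndex_mul_relIndex (⊥ : Subgroup G) (center G) D bot_le hD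
  rw [Subgroup.relIndex_bot_left, Subgroup.relIndex_bot_left] at h1
  have h2 := Subgroup.relIndex_ker (K := D) (QuotientGroup.mk' (center G))
  rw [QuotientGroup.ker_mk'] at h2
  rw [← h1, h2]

/-- `C_{E / Z}(y) ≠ E / Z` -/
theorem ESec.not_le_centralizer {E : Subgroup G} {r : ℕ} (h : ESec E r) {y : G}
    (hgen : normalClosure ({y} : Set G) = ⊤) :
    ¬ E.map (QuotientGroup.mk' (center G)) ≤ centralizer ({QuotientGroup.mk' (center G) y} : Set (G ⧸ center G)) := by
  intro hle
  -- `E / Z` is central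
  have hEn := h.normal
  have hcen : ∀ e ∈ E, ∀ g : G, g * e * g⁻¹ * e⁻¹ ∈ center G := by
    intro e he g
    have h1 : (⊤ : Subgroup G) ≤ (centralizer (E.map (QuotientGroup.mk' (center G)) : Set (G ⧸ center G))).comap
        (QuotientGroup.mk' (center G)) := by
      rw [← hgen]
      have hEm : (E.map (QuotientGroup.mk' (center G))).Normal := hEn.map _ (QuotientGroup.mk'_surjective _)
      refine Subgroup.normalClosure_le_normal ?_
      rw [Set.singleton_subset_iff]
      change QuotientGroup.mk' (center G) y ∈ centralizer _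
      rw [mem_centralizer_iff]
      intro x hx
      exact mem_centralizer_singleton_iff.1 (hle hx)
    have h2 := mem_centralizer_iff.1 (h1 (mem_top g)) (QuotientGroup.mk' (center G) e) ⟨e, he, rfl⟩
    have h3 : e ∈ cen E g := by
      rw [cen, mem_inf, mem_comap, mem_centralizer_singleton_iff]
      exact ⟨he, h2⟩
    exact (mem_cen.1 h3).2
  -- `⟨e⟩ Z` is normal
  obtain ⟨e, he, hez⟩ := SetLike.not_le_iff_exists.1 h.not_le
  let N : Subgroup G := zpowers e ⊔ center G
  have hmemN : ∀ x, x ∈ N ↔ ∃ n : ℤ, ∃ z ∈ center G, x = e ^ n * z := by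
    intro x
    constructor
    · intro hx
      obtain ⟨a, ha, z, hz, h⟩ := (Subgroup.mem_sup_of_normal_right).1 hx
      obtain ⟨n, hn⟩ := mem_zpowers_iff.1 ha
      exact ⟨n, z, hz, by rw [hn, h]⟩
    · rintro ⟨n, z, hz, rfl⟩
      exact mul_mem (mem_sup_left (zpow_mem (mem_zpowers e) n)) (mem_sup_right hz)
  have hNn : N.Normal := by
    refine ⟨?_⟩
    intro x hx g
    obtain ⟨n, z, hz, rfl⟩ := (hmemN x).1 hx
    have h1 : g * (e ^ n * z) * g⁻¹ = (g * e ^ n * g⁻¹ * (e ^ n)⁻¹) * (e ^ n * z) := by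
      have hz' := mem_center_iff.1 hz g⁻¹
      calc g * (e ^ n * z) * g⁻¹ = g * e ^ n * (z * g⁻¹) := by group
        _ = g * e ^ n * (g⁻¹ * z) := by rw [hz']
        _ = (g * e ^ n * g⁻¹ * (e ^ n)⁻¹) * (e ^ n * z) := by group
    rw [h1]
    exact mul_mem (mem_sup_right (hcen _ (zpow_mem he n) g)) hx
  rcases h.min N hNn le_sup_right (sup_le (zpowers_le.2 he) h.center_le) with h1 | h1
  · apply hez
    rw [← h1]
    exact mem_sup_left (mem_zpowers e)
  · apply h.not_le
    intro w hw
    refine h.cent w hw fun u hu => ?_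
    rw [← h1] at hw hu
    obtain ⟨n, z, hz, rfl⟩ := (hmemN w).1 hw
    obtain ⟨m, t, ht, rfl⟩ := (hmemN u).1 hu
    have c1 : Commute (e ^ m) (e ^ n) := (Commute.refl e).zpow_zpow m n
    have c2 : ∀ g, Commute g z := fun g => mem_center_iff.1 hz g
    have c3 : ∀ g, Commute g t := fun g => mem_center_iff.1 ht g
    exact ((c1.mul_right (c2 _)).mul_left ((c3 (e ^ n * z)).symm)).eq

/-- `y` centralizes `cen E y` (`p ≠ r`) -/
theorem ESec.commute_cen {E : Subgroup G} {r : ℕ} (h : ESec E r) {p : ℕ} (hcop : p.Coprime r)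
    {y : G} (hy : y ^ p = 1) {w : G} (hw : w ∈ cen E y) : y * w = w * y := by
  obtain ⟨hwE, hz⟩ := mem_cen.1 hw
  set z := y * w * y⁻¹ * w⁻¹ with hzd
  have hzc : ∀ g, z * g = g * z := fun g => (mem_center_iff.1 hz g).symm
  have h1 : y * w = z * w * y := by rw [hzd]; group
  have h2 : z ^ p = 1 := by
    have h3 := pow_mul_eq hzc h1 p
    rw [hy, one_mul, mul_one] at h3
    exact (mul_eq_right.1 h3.symm)
  have h4 : z ^ r = 1 := by
    have h5 : w * y = z⁻¹ * y * w := by
      have : y * w = z * (w * y) := by rw [← mul_assoc]; exact h1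
      rw [mul_assoc, this, inv_mul_cancel_left]
    have hzc' : ∀ g, z⁻¹ * g = g * z⁻¹ := fun g => (mem_center_iff.1 (inv_mem hz) g).symm
    have h6 := pow_mul_eq hzc' h5 r
    have h7 : w ^ r * y = y * w ^ r := (mem_center_iff.1 (h.pow w hwE) y).symm
    rw [h7, mul_assoc] at h6
    have h8 := (mul_eq_right.1 h6.symm)
    rw [inv_pow, inv_eq_one] at h8
    exact h8
  have h5 : z = 1 := by
    rw [← orderOf_eq_one_iff]
    exact Nat.eq_one_of_dvd_coprimes hcop (orderOf_dvd_of_pow_eq_one h2) (orderOf_dvd_of_pow_eq_one h4)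
  rw [h1, h5, one_mul]

/-- the centre of `cen E y` is the centre of `G` (`p ≠ r`) -/
theorem ESec.cent_cen {E : Subgroup G} {r : ℕ} (h : ESec E r) {p : ℕ} (hcop : p.Coprime r)
    {y : G} (hy : y ^ p = 1) {z : G} (hz : z ∈ cen E y) (hzc : ∀ u ∈ cen E y, u * z = z * u) : z ∈ center G := by
  have hzE := (mem_cen.1 hz).1
  have hzy : y * z = z * y := h.commute_cen hcop hy hz
  have hEn := h.normal
  refine h.cent z hzE fun e he => ?_
  -- `(e y) ^ p ∈ cen E y`
  have hN : (e * y) ^ p ∈ cen E y := by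
    rw [mem_cen]
    have hNE : (e * y) ^ p ∈ E := by
      rw [← QuotientGroup.eq_one_iff, QuotientGroup.mk_pow, QuotientGroup.mk_mul, (QuotientGroup.eq_one_iff e).2 he,
        one_mul, ← QuotientGroup.mk_pow, hy, QuotientGroup.mk_one]
    refine ⟨hNE, ?_⟩
    have h1 : y * (e * y) ^ p * y⁻¹ * ((e * y) ^ p)⁻¹ = e⁻¹ * (e * y) ^ p * e⁻¹⁻¹ * ((e * y) ^ p)⁻¹ := by
      have h2 : y * (e * y) ^ p * y⁻¹ = e⁻¹ * (e * y) ^ p * e⁻¹⁻¹ := by
        rw [← conj_pow, ← conj_pow]
        congr 1
        group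
      rw [h2]
    rw [h1]
    exact h.comm _ (inv_mem he) _ hNE
  have h1 := hzc _ hN
  -- `z e z⁻¹ = c e`
  have hc := h.comm z hzE e he
  set c := z * e * z⁻¹ * e⁻¹ with hcd
  have hcc : ∀ g, c * g = g * c := fun g => (mem_center_iff.1 hc g).symm
  have h2 : z * e = c * e * z := by rw [hcd]; group
  have hcp : c ^ p = 1 := by
    -- `(e y) z = c⁻¹ z (e y)`
    have h3 : e * y * z = c⁻¹ * z * (e * y) := by
      have hci := mem_center_iff.1 (inv_mem hc) z
      calc e * y * z = e * (y * z) := by group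
        _ = e * (z * y) := by rw [hzy]
        _ = c⁻¹ * (c * e * z) * y := by group
        _ = c⁻¹ * (z * e) * y := by rw [h2]
        _ = c⁻¹ * z * (e * y) := by group
    have hcc' : ∀ g, c⁻¹ * g = g * c⁻¹ := fun g => (mem_center_iff.1 (inv_mem hc) g).symm
    have h4 := pow_mul_eq hcc' h3 p
    rw [h1, mul_assoc] at h4
    have h5 := mul_eq_right.1 h4.symm
    rw [inv_pow, inv_eq_one] at h5
    exact h5
  have hcr : c ^ r = 1 := by
    have h3 : e * z = c⁻¹ * z * e := by
      rw [mul_assoc, h2, mul_assoc, inv_mul_cancel_left]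
    have hcc' : ∀ g, c⁻¹ * g = g * c⁻¹ := fun g => (mem_center_iff.1 (inv_mem hc) g).symm
    have h4 := pow_mul_eq hcc' h3 r
    have h5 : e ^ r * z = z * e ^ r := (mem_center_iff.1 (h.pow e he) z).symm
    rw [h5, mul_assoc] at h4
    have h6 := mul_eq_right.1 h4.symm
    rw [inv_pow, inv_eq_one] at h6
    exact h6
  have hc1 : c = 1 := by
    rw [← orderOf_eq_one_iff]
    exact Nat.eq_one_of_dvd_coprimes hcop (orderOf_dvd_of_pow_eq_one hcp) (orderOf_dvd_of_pow_eq_one hcr)
  rw [h2, hc1, one_mul]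

/-- **the index**, `p ≠ r` -/
theorem ESec.index_le {E : Subgroup G} {r : ℕ} (hr : r.Prime) (h : ESec E r) (hcyc : IsCyclic (center G))
    {p : ℕ} [hp : Fact p.Prime] (hpr : p ≠ r) {y : G} (hy : orderOf y = p)
    (hgen : normalClosure ({y} : Set G) = ⊤) : (p - 1) ^ 2 * Nat.card (cen E y) ≤ Nat.card E := by
  have hcop : p.Coprime r := (Nat.coprime_primes hp.out hr).2 hpr
  have hyp : y ^ p = 1 := by rw [← hy, pow_orderOf_eq_one]
  have hEn := h.normal
  have hZE := h.center_le
  have hZD : center G ≤ cen E y := by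
    intro z hz
    rw [mem_cen]
    refine ⟨hZE hz, ?_⟩
    have e : y * z * y⁻¹ * z⁻¹ = 1 := by
      rw [mem_center_iff.1 hz y]; group
    rw [e]
    exact one_mem _
  obtain ⟨s, hs⟩ := exists_sq_sub hcyc E hZE h.comm h.cent
  obtain ⟨t, ht⟩ := exists_sq_sub hcyc (cen E y) hZD
    (fun u hu w hw => h.comm u (mem_cen.1 hu).1 w (mem_cen.1 hw).1) (fun w hw hc => h.cent_cen hcop hyp hw hc)
  have hZpos : 0 < Nat.card (center G) := Nat.card_pos
  have hle : cen E y ≤ E := inf_le_left
  -- `t ∣ s`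
  have hts : t ∣ s := by
    have h1 : t ^ 2 * Nat.card (center G) ∣ s ^ 2 * Nat.card (center G) := by
      rw [← hs, ← ht]
      exact Subgroup.card_dvd_of_le hle
    exact (Nat.pow_dvd_pow_iff two_ne_zero).1 (Nat.dvd_of_mul_dvd_mul_right hZpos h1)
  obtain ⟨a, ha⟩ := hts
  have htpos : 0 < t := by
    rcases Nat.eq_zero_or_pos t with h1 | h1
    · rw [h1, zero_pow two_ne_zero, zero_mul] at ht
      exact absurd ht Nat.card_pos.ne'
    · exact h1
  -- orders modulo `Z`
  have hEm : Nat.card (E.map (QuotientGroup.mk' (center G))) = s ^ 2 := by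
    have h1 := card_map_mk E hZE
    rw [hs, mul_comm] at h1
    exact (Nat.eq_of_mul_eq_mul_left hZpos h1).symm
  have hDm : Nat.card ((cen E y).map (QuotientGroup.mk' (center G))) = t ^ 2 := by
    have h1 := card_map_mk (cen E y) hZD
    rw [ht, mul_comm] at h1
    exact (Nat.eq_of_mul_eq_mul_left hZpos h1).symm
  have hDeq : (cen E y).map (QuotientGroup.mk' (center G)) = E.map (QuotientGroup.mk' (center G)) ⊓
      centralizer ({QuotientGroup.mk' (center G) y} : Set (G ⧸ center G)) := by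
    apply le_antisymm
    · rintro _ ⟨w, hw, rfl⟩
      rw [cen] at hw
      obtain ⟨h1, h2⟩ := mem_inf.1 hw
      exact mem_inf.2 ⟨⟨w, h1, rfl⟩, h2⟩
    · rintro _ hw
      obtain ⟨⟨w, h1, rfl⟩, h2⟩ := mem_inf.1 hw
      exact ⟨w, mem_inf.2 ⟨h1, h2⟩, rfl⟩
  have hEmn : (E.map (QuotientGroup.mk' (center G))).Normal := hEn.map _ (QuotientGroup.mk'_surjective _)
  -- the order of the image of `y`
  have hnc := h.not_le_centralizer hgen
  have hy' : orderOf (QuotientGroup.mk' (center G) y) = p := by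
    have h1 : orderOf (QuotientGroup.mk' (center G) y) ∣ p := hy ▸ orderOf_map_dvd _ y
    rcases (Nat.dvd_prime hp.out).1 h1 with h2 | h2
    · exfalso
      apply hnc
      rw [orderOf_eq_one_iff] at h2
      rw [h2]
      intro x _
      rw [mem_centralizer_singleton_iff, mul_one, one_mul]
    · exact h2
  have hmod := card_modEq_centralizer (A := E.map (QuotientGroup.mk' (center G))) hy'
  rw [← hDeq, hEm, hDm] at hmod
  -- `p ∤ t`
  have hpt : ¬ p ∣ t := by
    intro hpt
    have h1 : p ∣ Nat.card (E.map (QuotientGroup.mk' (center G))) := by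
      rw [hEm, ha]
      exact (hpt.trans (dvd_mul_right t a)).trans (dvd_pow_self _ two_ne_zero)
    obtain ⟨x, hx⟩ := exists_prime_orderOf_dvd_card' p h1
    obtain ⟨e, he, hex⟩ := x.2
    have h2 : x ^ r = 1 := by
      apply Subtype.ext
      change (x : G ⧸ center G) ^ r = 1
      rw [← hex, ← map_pow]
      exact (QuotientGroup.eq_one_iff _).2 (h.pow e he)
    have h3 := orderOf_dvd_of_pow_eq_one h2
    rw [hx] at h3
    exact hpr ((Nat.prime_dvd_prime_iff_eq hp.out hr).1 h3)
  have ha1 : a ≠ 1 := by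
    rintro rfl
    apply hnc
    have h1 : (cen E y).map (QuotientGroup.mk' (center G)) = E.map (QuotientGroup.mk' (center G)) := by
      refine Subgroup.eq_of_le_of_card_ge (Subgroup.map_mono hle) ?_
      rw [hEm, hDm, ha, mul_one]
    rw [← h1, hDeq]
    exact inf_le_right
  have ha0 : a ≠ 0 := by
    rintro rfl
    rw [mul_zero] at ha
    rw [ha, zero_pow two_ne_zero, zero_mul] at hs
    exact absurd hs Nat.card_pos.ne'
  have hmod2 : a ^ 2 ≡ 1 [MOD p] := by
    have h1 : Nat.gcd p (t ^ 2) = 1 := ((Nat.Prime.coprime_iff_not_dvd hp.out).2 hpt).pow_right 2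
    refine Nat.ModEq.cancel_left_of_coprime h1 ?_
    rw [mul_one, ← mul_pow, ← ha]
    exact hmod
  have hdvd : p ∣ (a - 1) * (a + 1) := by
    have h1 : p ∣ a ^ 2 - 1 := (Nat.modEq_iff_dvd' (Nat.one_le_pow _ _ (Nat.pos_of_ne_zero ha0))).1 hmod2.symm
    have h2 : a ^ 2 - 1 = (a - 1) * (a + 1) := by
      rw [mul_comm, ← one_pow 2]
      simpa using Nat.sq_sub_sq a 1
    rwa [h2] at h1
  have hpa : p - 1 ≤ a := by
    rcases hp.out.dvd_mul.1 hdvd with h1 | h1
    · have := Nat.le_of_dvd (by omega) h1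
      omega
    · have := Nat.le_of_dvd (by omega) h1
      omega
  calc (p - 1) ^ 2 * Nat.card (cen E y) ≤ a ^ 2 * Nat.card (cen E y) :=
        Nat.mul_le_mul_right _ (Nat.pow_le_pow_left hpa 2)
    _ = Nat.card E := by rw [hs, ht, ha]; ring

end Cfsg.Agent.H457.Half
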